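import Groth.Prelude.Def_Coh
import Mathlib.CategoryTheory.Preadditive.Biproducts
import Mathlib.Algebra.Category.Grp.Preadditive
import Mathlib.LinearAlgebra.TensorProduct.Pi

/-!
# Additive functors to abelian groups and finite biproducts
-/

set_option autoImplicit false
universe u v w

open CategoryTheory CategoryTheory.Limits
open scoped TensorProduct

namespace K819.AddH

variable {C : Type w} [Category.{v} C] [Preadditive C] (Φ : C ⥤ AddCommGrpCat.{u}) [Φ.Additive]
  {n : ℕ} (F : Fin n → C) [HasBiproduct F]

theorem map_sum_apply {A B : C} {ι : Type*} (s : Finset ι) (g : ι → (A ⟶ B)) (h : Φ.obj A) :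
    Φ.map (∑ i ∈ s, g i) h = ∑ i ∈ s, Φ.map (g i) h := by
  classical
  induction s using Finset.induction_on with
  | empty =>
    rw [Finset.sum_empty, Finset.sum_empty, Functor.map_zero]
    rfl
  | insert i s hi ih =>
    rw [Finset.sum_insert hi, Finset.sum_insert hi, Functor.map_add, ← ih]
    rfl

/-- The value of an additive functor on a finite biproduct. -/
noncomputable def equivPi : Φ.obj (⨁ F) ≃ (∀ l, Φ.obj (F l)) where
  toFun h l := Φ.map (biproduct.π F l) h
  invFun g := ∑ l, Φ.map (biproduct.ι F l) (g l)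
  left_inv h := by
    have h1 : ∀ l, Φ.map (biproduct.ι F l) (Φ.map (biproduct.π F l) h) =
        Φ.map (biproduct.π F l ≫ biproduct.ι F l) h := fun l => by
      rw [Functor.map_comp]
      rfl
    refine (Finset.sum_congr rfl fun l _ => h1 l).trans ?_
    rw [← map_sum_apply, biproduct.total, CategoryTheory.Functor.map_id]
    rfl
  right_inv g := by
    funext l
    have h1 : ∀ j, Φ.map (biproduct.π F l) (Φ.map (biproduct.ι F j) (g j)) =
        Φ.map (biproduct.ι F j ≫ biproduct.π F l) (g j) := fun j => by
      rw [Functor.map_comp]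
      rfl
    have h2 : Φ.map (biproduct.π F l) (∑ j, Φ.map (biproduct.ι F j) (g j)) =
        ∑ j, Φ.map (biproduct.ι F j ≫ biproduct.π F l) (g j) := by
      rw [← Finset.sum_congr rfl fun j _ => h1 j]
      exact map_sum (Φ.map (biproduct.π F l)).hom _ _
    refine h2.trans ?_
    rw [Finset.sum_eq_single l, biproduct.ι_π_self, CategoryTheory.Functor.map_id]
    · rfl
    · intro j _ hj
      rw [biproduct.ι_π_ne F hj, Functor.map_zero]
      rfl
    · intro h
      exact absurd (Finset.mem_univ l) h

/-- Functions and tensor products. -/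
theorem nonempty_equiv_tensor {k : Type*} [Field k] {H J : Type*} [AddCommGroup H] [Module k H] [AddCommGroup J]
    [Module k J] {n : ℕ} (b : Module.Basis (Fin n) k J) : Nonempty ((Fin n → H) ≃ (H ⊗[k] J)) := by
  have e1 : (H ⊗[k] J) ≃ₗ[k] (H ⊗[k] (Fin n → k)) := TensorProduct.congr (LinearEquiv.refl k H) b.equivFun
  have e2 : (H ⊗[k] (Fin n → k)) ≃ₗ[k] (Fin n → H) := TensorProduct.piScalarRight k k H (Fin n)
  exact ⟨(e1.trans e2).toEquiv.symm⟩

end K819.AddH
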