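import Groth.Agent.DefT.K819.SemiKer
import Groth.Agent.PtDefo.K819.SectLift

/-!
# Extensions of a deformation along a semismall extension
-/

set_option autoImplicit false
universe u

open CategoryTheory CategoryTheory.Limits AlgebraicGeometry Opposite TopologicalSpace
open Groth.Agent.Sga67.Sec
open K696.Base K696.Thk K679 K679.DerBand K679.SmallOb OmegaSh
open ArtFun ArtFun.Art K681.AffDef
open scoped TensorProduct

attribute [local instance] Abelian.hasFiniteBiproducts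

namespace K819.MultiOb

section cls

variable {X Y S₀ S₁ S : Scheme.{u}} {i : X ⟶ Y} {q : X ⟶ S₀} {f : Y ⟶ S₁} {s₁ : S₁ ⟶ S} {s₀ : S₀ ⟶ S}
  {n : ℕ} {tt : Fin n → Γ(S, ⊤)}
  (hsq : IsPullback i q (f ≫ s₁) s₀) [IsClosedImmersion s₀] [IsClosedImmersion s₁] [IsAffine S]
  (hD : Dat s₁ s₀ tt) [Surjective s₁]
  {Z : TopCat.{u}} {e : Z ≃ₜ Y} {G : CohTop.Ab Z} (B₀ : Band (f ≫ s₁) (pN i (On X n)) e G)

/-- Isomorphic lifts. -/
def Lft.Rel (a b : Lft f s₁) : Prop := ∃ φ : a.Z ≅ b.Z, φ.hom ≫ b.h = a.h ∧ a.j ≫ φ.hom = b.j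

include hsq hD B₀ in
/-- Lifts are classified by `H¹(G)`. -/
theorem exists_cls (hloc : ∀ a b : Lft f s₁, LocIso (a.pl hsq hD) (b.pl hsq hD)) (a₀ : Lft f s₁) :
    ∃ F : Lft f s₁ → CohTop.H G 1, (∀ a b, F a = F b ↔ a.Rel b) ∧ Function.Surjective F := by
  choose F hF using fun a : Lft f s₁ => exists_pcls (pband0 B₀) (hloc a₀ a)
  refine ⟨F, fun a b => ⟨fun h => ?_, ?_⟩, fun c => ?_⟩
  · have h1 := hF a
    rw [h] at h1
    obtain ⟨g⟩ := exists_parr_of_pcls (hloc a₀ a) (hloc a₀ b) h1 (hF b)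
    exact Lft.exists_iso_of_parr hsq hD g
  · rintro ⟨φ, h1, h2⟩
    obtain ⟨g⟩ := Lft.nonempty_parr_of_iso hsq hD φ h1 h2
    exact PCls.unique (hloc a₀ b) ((hF a).of_arr (hloc a₀ a) g) (hF b)
  · obtain ⟨b, hb⟩ := exists_lft_of_class (hsq := hsq) (hD := hD) B₀ a₀ c
    exact ⟨b, PCls.unique (hloc a₀ b) (hF b) hb⟩

end cls

section ext

variable {k : Type u} [Field k] {X : Scheme.{u}} {x : X ⟶ specPt k} {C' C : Art k k} {p : C' ⟶ C}
  {𝒳 : ArtFun.DefSch X x C}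

variable (p 𝒳) in
/-- The extensions. -/
abbrev Extn : Type (u + 1) := Σ 𝒳' : ArtFun.DefSch X x C', (𝒳'.baseChange p).Iso 𝒳

variable (a b : Extn p 𝒳)

/-- The inclusion. -/
noncomputable def jE : 𝒳.total ⟶ a.1.total := a.2.iso.inv ≫ pullback.fst a.1.f (specMap p)

theorem isPullback_jE : IsPullback (jE a) 𝒳.f a.1.f (specMap p) := by
  refine (IsPullback.of_hasPullback a.1.f (specMap p)).of_iso a.2.iso (Iso.refl _) (Iso.refl _) (Iso.refl _)
    ?_ ?_ ?_ ?_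
  · unfold jE
    rw [Iso.refl_hom, Category.comp_id]
    exact (a.2.iso.hom_inv_id_assoc _).symm
  · rw [Iso.refl_hom, Category.comp_id]
    exact a.2.hom_f.symm
  · rw [Iso.refl_hom, Category.comp_id, Iso.refl_hom, Category.id_comp]
  · rw [Iso.refl_hom, Category.comp_id, Iso.refl_hom, Category.id_comp]

theorem i_jE : 𝒳.i ≫ jE a = a.1.i := by
  unfold jE
  have h1 : 𝒳.i ≫ a.2.iso.inv = (a.1.baseChange p).i := by
    rw [Iso.comp_inv_eq]
    exact a.2.i_hom.symm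
  rw [← Category.assoc, h1]
  exact ArtFun.DefSch.baseChange_i_fst a.1 p

theorem inv_snd : a.2.iso.inv ≫ pullback.snd a.1.f (specMap p) = 𝒳.f := by
  rw [Iso.inv_comp_eq]
  exact a.2.hom_f.symm

/-- The lift underlying an extension. -/
noncomputable def toLft : Lft 𝒳.f (specMap p) where
  Z := a.1.total
  h := a.1.f
  flat := a.1.flat
  j := jE a
  isPullback := isPullback_jE a

theorem rel_iff : (∃ ψ : a.1.Iso b.1, ((ψ.baseChange p).trans b.2).iso = a.2.iso) ↔ (toLft a).Rel (toLft b) := by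
  constructor
  · rintro ⟨ψ, hψ⟩
    refine ⟨ψ.iso, ψ.hom_f, ?_⟩
    change (a.2.iso.inv ≫ pullback.fst a.1.f (specMap p)) ≫ ψ.iso.hom = b.2.iso.inv ≫ pullback.fst b.1.f (specMap p)
    have h1 : ArtFun.DefSch.pullMap ψ.iso.hom ψ.hom_f p ≫ b.2.iso.hom = a.2.iso.hom := congrArg Iso.hom hψ
    rw [Category.assoc, ← ArtFun.DefSch.pullMap_fst ψ.iso.hom ψ.hom_f p, ← Category.assoc]
    congr 1
    rw [Iso.inv_comp_eq, ← h1, Category.assoc, Iso.hom_inv_id, Category.comp_id]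
  · intro h
    obtain ⟨φ, h1', h2'⟩ : ∃ φ : a.1.total ≅ b.1.total, φ.hom ≫ b.1.f = a.1.f ∧ jE a ≫ φ.hom = jE b := h
    let ψ : a.1.Iso b.1 := ⟨φ, h1', by rw [← i_jE a, Category.assoc, h2', i_jE]⟩
    refine ⟨ψ, ?_⟩
    apply Iso.ext
    change ArtFun.DefSch.pullMap φ.hom h1' p ≫ b.2.iso.hom = a.2.iso.hom
    rw [← Iso.eq_comp_inv, ← Iso.inv_comp_eq]
    apply pullback.hom_ext
    · rw [Category.assoc, ArtFun.DefSch.pullMap_fst φ.hom h1' p, ← Category.assoc]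
      exact h2'
    · rw [Category.assoc, ArtFun.DefSch.pullMap_snd φ.hom h1' p, inv_snd, inv_snd]

/-- The deformation underlying a lift. -/
noncomputable def lftDef (b : Lft 𝒳.f (specMap p)) : ArtFun.DefSch X x C' where
  total := b.Z
  f := b.h
  flat := b.flat
  i := 𝒳.i ≫ b.j
  isPullback := by
    have h1 := 𝒳.isPullback.paste_horiz b.isPullback
    rw [specRes_comp] at h1
    exact h1

theorem exists_extn (b : Lft 𝒳.f (specMap p)) : ∃ a : Extn p 𝒳, toLft a = b := by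
  let e := (IsPullback.of_hasPullback (lftDef b).f (specMap p)).isoIsPullback _ _ b.isPullback
  have h1 : e.hom ≫ b.j = pullback.fst (lftDef b).f (specMap p) := IsPullback.isoIsPullback_hom_fst _ _ _ b.isPullback
  have h2 : e.hom ≫ 𝒳.f = pullback.snd (lftDef b).f (specMap p) := IsPullback.isoIsPullback_hom_snd _ _ _ b.isPullback
  let ι : ((lftDef b).baseChange p).Iso 𝒳 := ⟨e, h2, by
    apply b.isPullback.hom_ext
    · rw [Category.assoc, h1]
      exact pullback.lift_fst _ _ _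
    · rw [Category.assoc, h2, 𝒳.i_f]
      exact pullback.lift_snd _ _ _⟩
  refine ⟨⟨lftDef b, ι⟩, ?_⟩
  have h3 : jE (⟨lftDef b, ι⟩ : Extn p 𝒳) = b.j := by
    exact (Iso.inv_comp_eq e).2 h1.symm
  obtain ⟨Z, h, fl, j, hj⟩ := b
  unfold toLft
  congr 1

theorem smooth_lft [Smooth x] (b : Lft 𝒳.f (specMap p)) : Smooth b.h := SectLift.smooth_f (lftDef b)

end ext

/-- The main theorem. -/
theorem nonempty_equiv {k : Type u} [Field k] {X : Scheme.{u}} [X.Over (Spec (CommRingCat.of k))]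
    [Smooth (X ↘ Spec (CommRingCat.of k))] [IsSeparated (X ↘ Spec (CommRingCat.of k))]
    [DCoh.HasSheafHom (Omega.sheaf (X ↘ Spec (CommRingCat.of k)))]
    {C' C : ArtFun.Art k k} (p : C' ⟶ C) (hp : ArtFun.Art.IsSemismallExt p)
    (𝒳 : ArtFun.DefSch X (X ↘ Spec (CommRingCat.of k)) C)
    (hne : Nonempty (Extn p 𝒳)) :
    Nonempty (Quot (fun a b : Extn p 𝒳 => ∃ ψ : a.1.Iso b.1, ((ψ.baseChange p).trans b.2).iso = a.2.iso) ≃
      (Coh.HH X ((DCoh.sheafHom (Omega.sheaf (X ↘ Spec (CommRingCat.of k)))).obj (Coh.structureModule X)) 1 ⊗[k]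
        ↥(RingHom.ker p.toAlgHom))) := by
  have hfin := finite_ker p
  let b := Module.finBasis k ↥(RingHom.ker p.toAlgHom)
  have hd : IsUniversal (dOmega (X ↘ Spec (CommRingCat.of k))) := Groth.Agent.S5005.result _
  have hcl : IsClosedImmersion (specMap p) := IsClosedImmersion.spec_of_surjective _ hp.1
  have hsur : Surjective (specMap p) :=
    (K204.ArtThick.isFiniteOrderThickening_spec p.toAlgHom.toRingHom hp.1 ⟨2, ker_sq hp⟩).1.2
  have hsq : IsPullback 𝒳.i (X ↘ Spec (CommRingCat.of k)) (𝒳.f ≫ specMap p) (specRes C') := by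
    have h1 := K679.ArtSmall.isPullback_comp_mono 𝒳.isPullback (specMap p)
    rw [specRes_comp] at h1
    exact h1
  obtain ⟨a₀⟩ := hne
  obtain ⟨F, hF, hF'⟩ := exists_cls hsq (dat hp b)
    (homBand hsq hd (On X _) (K679.SmallLift.homeo 𝒳.i) (fun x => rfl))
    (fun a b' => locIso p.toAlgHom.toRingHom hp.1 hsq (dat hp b) a b' (ker_sq hp) (smooth_lft b')) (toLft a₀)
  obtain ⟨E⟩ := nonempty_equiv_HH (X := X) (Omega.sheaf (X ↘ Spec (CommRingCat.of k))) k b
  refine ⟨(Equiv.ofBijective (Quot.lift (fun a : Extn p 𝒳 => F (toLft a)) fun a a' h =>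
    (hF _ _).2 ((rel_iff a a').1 h)) ⟨?_, ?_⟩).trans E⟩
  · intro z z' h
    obtain ⟨a, rfl⟩ := Quot.exists_rep z
    obtain ⟨a', rfl⟩ := Quot.exists_rep z'
    exact Quot.sound ((rel_iff a a').2 ((hF _ _).1 h))
  · intro c
    obtain ⟨l, rfl⟩ := hF' c
    obtain ⟨a, rfl⟩ := exists_extn l
    exact ⟨Quot.mk _ a, rfl⟩

end K819.MultiOb
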