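import Groth.Agent.DefT.K819.LftTw
import Groth.Agent.DefT.K819.AddH

/-!
# The band of derivations into the push-forward of `O ^ n` and the sheaf Hom
-/

set_option autoImplicit false
universe u

open CategoryTheory CategoryTheory.Limits AlgebraicGeometry Opposite TopologicalSpace
open Groth.Agent.Sga67.Sec
open K696.Base K696.Thk K696.DerLoc K679 K679.DerBand OmegaSh
open scoped TensorProduct

attribute [local instance] Abelian.hasFiniteBiproducts

namespace K819.MultiOb

section band

variable {X Y S₀ S : Scheme.{u}} {i : X ⟶ Y} {q : X ⟶ S₀} {s : S₀ ⟶ S} {p₀ : Y ⟶ S}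
  (hsq : IsPullback i q p₀ s) [IsClosedImmersion s] [Surjective i] {Ω : X.Modules} {d : Der q Ω}
  (hd : IsUniversal d) [DCoh.HasSheafHom Ω] (N : X.Modules) (e : X ≃ₜ Y) (he : ∀ x, e x = i x)

/-- The band of derivations into the push-forward. -/
noncomputable def homBand : Band p₀ (pN i N) (X := X.toTopCat) e (Coh.toAb ((DCoh.sheafHom Ω).obj N)) where
  β U := (IdBand.homSec Ω N U).trans (IdBand.locPre.trans ((derEquiv hd).symm.trans
    (derEquivS hsq (le_opensCongr_iff e he U))))
  nat {U V} h t := by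
    change derEquivS hsq (le_opensCongr_iff e he V) ((derEquiv hd).symm (IdBand.locPre
      (IdBand.homSec Ω N V (K288.Sec.rs _ h t)))) = _
    rw [IdBand.homSec_rs]
    rfl

end band

section coh

variable {X : Scheme.{u}} (Ω : X.Modules) [DCoh.HasSheafHom Ω]

theorem additive_sheafHom : (DCoh.sheafHom Ω).Additive := by
  have h1 : (DCoh.sheafHom Ω).IsRightAdjoint := (DCoh.sheafHomAdj Ω).isRightAdjoint
  have h2 : (DCoh.sheafHom Ω).PreservesZeroMorphisms := Functor.preservesZeroMorphisms_of_isRightAdjoint _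
  have h4 : PreservesLimitsOfShape (Discrete WalkingPair) (DCoh.sheafHom Ω) :=
    (DCoh.sheafHomAdj Ω).rightAdjoint_preservesLimits.1
  have h3 : PreservesBinaryBiproducts (DCoh.sheafHom Ω) := preservesBinaryBiproducts_of_preservesBinaryProducts _
  exact Functor.additive_of_preservesBinaryBiproducts _

/-- The cohomology of the sheaf Hom, as a functor. -/
noncomputable abbrev cohF (k : ℕ) : X.Modules ⥤ AddCommGrpCat.{u} :=
  DCoh.sheafHom Ω ⋙ SheafOfModules.toSheaf X.ringCatSheaf ⋙ Sheaf.functorH _ k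

instance (k : ℕ) : (cohF Ω k).Additive where
  map_add {A B f g} := by
    have h0 := additive_sheafHom Ω
    have h1 : (SheafOfModules.toSheaf X.ringCatSheaf ⋙
      (Sheaf.functorH (Opens.grothendieckTopology X) k : _ ⥤ AddCommGrpCat.{u})).Additive := inferInstance
    have h2 : (DCoh.sheafHom Ω).map (f + g) = (DCoh.sheafHom Ω).map f + (DCoh.sheafHom Ω).map g := Functor.map_add _
    refine (congrArg (SheafOfModules.toSheaf X.ringCatSheaf ⋙
      (Sheaf.functorH (Opens.grothendieckTopology X) k : _ ⥤ AddCommGrpCat.{u})).map h2).trans ?_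
    exact h1.map_add

variable (k : Type u) [Field k] [X.Over (Spec (CommRingCat.of k))]

/-- The first cohomology of `Hom(Ω, O ^ n)`. -/
theorem nonempty_equiv_HH {J : Type u} [AddCommGroup J] [Module k J] {n : ℕ} (b : Module.Basis (Fin n) k J) :
    Nonempty (Coh.HH X ((DCoh.sheafHom Ω).obj (On X n)) 1 ≃
      (Coh.HH X ((DCoh.sheafHom Ω).obj (Coh.structureModule X)) 1 ⊗[k] J)) := by
  obtain ⟨e⟩ := AddH.nonempty_equiv_tensor (H := Coh.HH X ((DCoh.sheafHom Ω).obj (Coh.structureModule X)) 1) b
  exact ⟨(AddH.equivPi (cohF Ω 1) (fun _ : Fin n => Coh.structureModule X)).trans e⟩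

end coh

end K819.MultiOb
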