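import Groth.Agent.DefT.K819.MultiOb
import Groth.Agent.PtDefo.K819.PCls
import Groth.Agent.PtDefo.K819.PtBand

/-!
# Flat lifts as thickenings

`Lft f s₁`: the flat lifts of `f : Y ⟶ S₁` along `s₁ : S₁ ⟶ S`; `Lft.ob`: the thickening by `i_* O ^ n`;
isomorphisms of lifts and global arrows of thickenings; the trivial marked points `P0`.
-/

set_option autoImplicit false
universe u

open CategoryTheory CategoryTheory.Limits AlgebraicGeometry Opposite TopologicalSpace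
open Groth.Agent.Sga67.Sec
open K696.Base K696.Thk K679 K679.DerBand K679.SmallOb

attribute [local instance] Abelian.hasFiniteBiproducts

namespace K819.MultiOb

section triv

variable {X₀ S : Scheme.{u}} (p₀ : X₀ ⟶ S) (M : X₀.Modules)

/-- No marked points. -/
def P0 : PtDat p₀ M where
  J := PEmpty.{u + 1}
  x j := j.elim
  R j := j.elim
  ring j := j.elim
  ev j := j.elim

variable {p₀ M}

/-- A thickening without marked points. -/
def pob0 (a : ThOb p₀ M (⊤ : X₀.Opens)) : POb (P0 p₀ M) where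
  toThOb := a
  pt j := PEmpty.elim j
  res_pt j := PEmpty.elim j
  pt_κ j := PEmpty.elim j

/-- An arrow without marked points. -/
def parr0 {a b : ThOb p₀ M (⊤ : X₀.Opens)} {U : X₀.Opens} (f : TArr a b U) : PArr (pob0 a) (pob0 b) U :=
  ⟨f, fun j => PEmpty.elim j⟩

/-- The band, without marked points. -/
noncomputable def pband0 {X : TopCat.{u}} {e : X ≃ₜ X₀} {G : CohTop.Ab X} (B : Band p₀ M e G) :
    PBand (P0 p₀ M) e G :=
  subBand (𝟙 M) (P0 p₀ M) (fun _ m => ⟨fun _ j => PEmpty.elim j, fun _ => ⟨m, rfl⟩⟩) B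

end triv

section small

variable {X Y S₀ S₁ S : Scheme.{u}} {i : X ⟶ Y} {q : X ⟶ S₀} {f : Y ⟶ S₁} {s₁ : S₁ ⟶ S} {s₀ : S₀ ⟶ S}
  {n : ℕ} {tt : Fin n → Γ(S, ⊤)}
  (hsq : IsPullback i q (f ≫ s₁) s₀) [IsClosedImmersion s₀] [IsClosedImmersion s₁] [IsAffine S]
  (hD : Dat s₁ s₀ tt)

section arr

variable {W : Y.Opens} (T : Th W) {st : T.X ⟶ S} (hpb : IsPullback T.j (W.ι ≫ f) st s₁) [Flat st]
  {W' : Y.Opens} (T' : Th W') {st' : T'.X ⟶ S} (hpb' : IsPullback T'.j (W'.ι ≫ f) st' s₁) [Flat st']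

/-- Ring maps compatible with the structure maps and the reductions are compatible with `κ`. -/
theorem κ_of_comm {V : Y.Opens} (hV : Sm (f ≫ s₁) V) (hVW : V ≤ W) (hVW' : V ≤ W')
    (g : Γ(T'.X, T'.im V) →+* Γ(T.X, T.im V)) (h1 : ∀ l, g (tV T' st' tt V l) = tV T st tt V l)
    (h2 : ∀ s, T.π hVW (g s) = T'.π hVW' s) (m : Sec (pN i (On X n)) V) :
    g ((ob hsq hD T' hpb').κ hV hVW' m) = (ob hsq hD T hpb).κ hV hVW m := by
  obtain ⟨a, rfl⟩ := exists_sec hsq T' hV.1 hVW' m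
  have h3 : (ob hsq hD T' hpb').κ hV hVW' (sec i T' hVW' a) = ∑ l, tV T' st' tt V l * a l :=
    ob_κ hsq hD T' hpb' hV hVW' a
  have h4 : (ob hsq hD T hpb).κ hV hVW (sec i T' hVW' a) = ∑ l, tV T st tt V l * g (a l) := by
    refine kap_eq hsq hD T hpb hV.1 hVW _ (fun l => g (a l)) fun l => ?_
    rw [pr_sec]
    exact congrArg (ev i le_rfl) (h2 (a l))
  refine (congrArg g h3).trans (Eq.trans ?_ h4.symm)
  refine (map_sum g _ _).trans (Finset.sum_congr rfl fun l _ => ?_)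
  refine (map_mul g _ _).trans ?_
  rw [h1]

variable {U : Y.Opens} (hU : U ≤ W) (hU' : U ≤ W')

/-- The isomorphism of thickenings given by a morphism of lifts. -/
noncomputable def arrOfHom (h : (T.im U).toScheme ⟶ T'.X)
    (hj : jU T hU ≫ h = Y.homOfLE hU' ≫ T'.j) (hst : h ≫ st' = (T.im U).ι ≫ st) :
    TArr (ob hsq hD T hpb) (ob hsq hD T' hpb') U :=
  TArr.ofHom (a := ob hsq hD T hpb) (b := ob hsq hD T' hpb') hU hU' h hj hst (by
    intro V hV hVU m
    refine κ_of_comm hsq hD T hpb T' hpb' hV (hVU.trans hU) (hVU.trans hU')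
      (appOfHom (a := ob hsq hD T hpb) (b := ob hsq hD T' hpb') hU hU' h hj hVU) ?_ ?_ m
    · intro l
      exact appOfHom_st (a := ob hsq hD T hpb) (b := ob hsq hD T' hpb') hU hU' h hj
        hst hVU (Z := ⊤) (show V ≤ (f ≫ s₁) ⁻¹ᵁ ⊤ from le_top) (tt l)
    · intro s
      exact π_appOfHom (a := ob hsq hD T hpb) (b := ob hsq hD T' hpb') hU hU' h hj hVU s)

end arr

/-- A flat lift. -/
structure Lft (f : Y ⟶ S₁) (s₁ : S₁ ⟶ S) where
  Z : Scheme.{u}
  h : Z ⟶ S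
  flat : Flat h
  j : Y ⟶ Z
  isPullback : IsPullback j f h s₁

namespace Lft

variable [Surjective s₁] (a b : Lft f s₁)

instance : Flat a.h := a.flat

/-- The underlying thickening. -/
noncomputable def th : Th (⊤ : Y.Opens) where
  X := a.Z
  j := (⊤ : Y.Opens).ι ≫ a.j
  cl := by
    have : IsClosedImmersion a.j := MorphismProperty.of_isPullback a.isPullback.flip inferInstance
    infer_instance
  su := by
    have : Surjective a.j := MorphismProperty.of_isPullback a.isPullback.flip inferInstance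
    infer_instance

/-- The structure morphism. -/
noncomputable def str : a.th.X ⟶ S := a.h

/-- The inclusion. -/
noncomputable def inc : Y ⟶ a.th.X := a.j

theorem th_j : a.th.j = (⊤ : Y.Opens).ι ≫ a.inc := rfl

instance : Flat a.str := a.flat

theorem isPullback_inc : IsPullback a.inc f a.str s₁ := a.isPullback

theorem isPullback_th : IsPullback a.th.j ((⊤ : Y.Opens).ι ≫ f) a.str s₁ := by
  have h1 : IsPullback (⊤ : Y.Opens).ι ((⊤ : Y.Opens).ι ≫ f) f (𝟙 _) := IsPullback.of_horiz_isIso ⟨by simp⟩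
  have h2 := h1.paste_horiz a.isPullback_inc
  rwa [Category.id_comp] at h2

/-- The thickening by `i_* O ^ n`. -/
noncomputable def lob : ThOb (f ≫ s₁) (pN i (On X n)) (⊤ : Y.Opens) := ob hsq hD a.th a.isPullback_th

/-- The thickening without marked points. -/
noncomputable def pl : POb (P0 (f ≫ s₁) (pN i (On X n))) := pob0 (a.lob hsq hD)

variable {a b}

/-- A global arrow comes from an isomorphism of lifts. -/
theorem exists_iso_of_parr (g : PArr (a.pl hsq hD) (b.pl hsq hD) ⊤) :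
    ∃ φ : a.Z ≅ b.Z, φ.hom ≫ b.h = a.h ∧ a.j ≫ φ.hom = b.j := by
  obtain ⟨φ, h1, h2, -⟩ := g.1.exists_iso
  refine ⟨φ, h2, ?_⟩
  have h4 : (⊤ : Y.Opens).ι ≫ a.inc ≫ φ.hom = (⊤ : Y.Opens).ι ≫ b.inc := h1
  exact (cancel_epi (⊤ : Y.Opens).ι).1 h4

/-- An isomorphism of lifts gives a global arrow. -/
theorem nonempty_parr_of_iso (φ : a.Z ≅ b.Z) (h1 : φ.hom ≫ b.h = a.h) (h2 : a.j ≫ φ.hom = b.j) :
    Nonempty (PArr (a.pl hsq hD) (b.pl hsq hD) ⊤) := by
  obtain ⟨g, e0, e1⟩ : ∃ g : a.th.X ⟶ b.th.X, a.inc ≫ g = b.inc ∧ g ≫ b.str = a.str := ⟨φ.hom, h2, h1⟩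
  refine ⟨parr0 (arrOfHom hsq hD a.th a.isPullback_th b.th b.isPullback_th le_top le_top
    ((a.th.im ⊤).ι ≫ g) ?_ ?_)⟩
  · have h1 := jU_ι a.th (le_top : (⊤ : Y.Opens) ≤ ⊤)
    rw [reassoc_of% h1, th_j, th_j, Category.assoc, e0]
  · rw [Category.assoc, e1]

end Lft

end small

section loc

variable {R R₁ : Type u} [CommRing R] [CommRing R₁] (φ : R →+* R₁) (hφ : Function.Surjective φ)

variable {X Y S₀ : Scheme.{u}} {i : X ⟶ Y} {q : X ⟶ S₀} {f : Y ⟶ Spec (CommRingCat.of R₁)}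
  {s₀ : S₀ ⟶ Spec (CommRingCat.of R)} {n : ℕ} {tt : Fin n → Γ(Spec (CommRingCat.of R), ⊤)}
  (hsq : IsPullback i q (f ≫ Spec.map (CommRingCat.ofHom φ)) s₀) [IsClosedImmersion s₀]
  [IsClosedImmersion (Spec.map (CommRingCat.ofHom φ))] [Surjective (Spec.map (CommRingCat.ofHom φ))]
  (hD : Dat (Spec.map (CommRingCat.ofHom φ)) s₀ tt)
  (a b : Lft f (Spec.map (CommRingCat.ofHom φ)))

include hφ in
/-- Two lifts, the second one smooth, are locally isomorphic. -/
theorem locIso (hk : (RingHom.ker φ) ^ 2 = ⊥) (hb : Smooth b.h) : LocIso (a.pl hsq hD) (b.pl hsq hD) := by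
  intro x
  obtain ⟨U, hU, hxU⟩ : ∃ U : Y.Opens, IsAffineOpen U ∧ x ∈ U := by
    obtain ⟨_, ⟨U, hU, rfl⟩, hxU, -⟩ := Y.isBasis_affineOpens.exists_subset_of_mem_open
      (show x ∈ ((⊤ : Y.Opens) : Set Y) from trivial) (⊤ : Y.Opens).2
    exact ⟨U, hU, hxU⟩
  have h1 : U ≤ ⊤ := le_top
  refine ⟨U, hxU, ?_⟩
  have hbs : Smooth b.str := hb
  have ha : IsAffine (a.th.im U).toScheme := isAffineOpen_im a.th hU h1
  have hW : IsPullback (jU a.th h1) (U.ι ≫ f) ((a.th.im U).ι ≫ a.str) (Spec.map (CommRingCat.ofHom φ)) := by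
    have := (isPullback_jU a.th h1).paste_vert a.isPullback_th
    rw [← Category.assoc, Scheme.homOfLE_ι] at this
    exact this
  have ha' : (Y.homOfLE h1 ≫ b.th.j) ≫ b.str = jU a.th h1 ≫ (a.th.im U).ι ≫ a.str := by
    rw [hW.w, Category.assoc, b.isPullback_th.w, ← Category.assoc, ← Category.assoc, Scheme.homOfLE_ι,
      Category.assoc]
  obtain ⟨l, hl, hl'⟩ := Groth.Agent.Pi1.H421.AffStep.exists_lift_mor φ hφ hk (jU a.th h1) (U.ι ≫ f)
    ((a.th.im U).ι ≫ a.str) hW b.str (Y.homOfLE h1 ≫ b.th.j) ha'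
  exact ⟨parr0 (arrOfHom hsq hD a.th a.isPullback_th b.th b.isPullback_th h1 h1 l hl hl')⟩

end loc

end K819.MultiOb
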