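import Groth.Agent.DefT.K819.LftCls
import Groth.Agent.PtDefo.K819.TwDef

/-!
# Twisted lifts

Every class in `H¹(G)` is the class of a flat lift, relative to a given one.
-/

set_option autoImplicit false
universe u

open CategoryTheory CategoryTheory.Limits AlgebraicGeometry Opposite TopologicalSpace
open Groth.Agent.Sga67.Sec
open Groth.Agent.Fga.Torsor
open K696.Base K696.Thk K679 K679.DerBand K679.SmallOb

attribute [local instance] Abelian.hasFiniteBiproducts

namespace K819.MultiOb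

variable {X Y S₀ S₁ S : Scheme.{u}} {i : X ⟶ Y} {q : X ⟶ S₀} {f : Y ⟶ S₁} {s₁ : S₁ ⟶ S} {s₀ : S₀ ⟶ S}
  {n : ℕ} {tt : Fin n → Γ(S, ⊤)}
  {hsq : IsPullback i q (f ≫ s₁) s₀} [IsClosedImmersion s₀] [IsClosedImmersion s₁] [IsAffine S]
  {hD : Dat s₁ s₀ tt} [Surjective s₁] {a : Lft f s₁}
  {Z : TopCat.{u}} {e : Z ≃ₜ Y} {G : CohTop.Ab Z} {B₀ : Band (f ≫ s₁) (pN i (On X n)) e G}
  (R : (grb B₀ (fun _ : PUnit.{u + 1} => (⊤ : Y.Opens)) (fun _ => (a.pl hsq hD).toThOb)
    (fun _ _ _ _ _ => ⟨⊤, trivial, ⟨TArr.one (a.pl hsq hD).toThOb le_rfl⟩⟩)).Rig)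

theorem flat_strS : Flat (strS R) := by
  have hZ : IsZariskiLocalAtSource @Flat := HasRingHomProperty.instIsZariskiLocalAtSource
  unfold strS glS
  rw [hZ.iff_of_openCover (thSys R).cov]
  intro V
  have h1 : (thSys R).ι V ≫ K679.str R = stS R V := ι_str R V
  change Flat ((thSys R).ι V ≫ K679.str R)
  rw [h1]
  have hfl : Flat a.str := inferInstance
  have ho' : Flat (isAffineOpen_im a.th (smS R V).1 (le_of_RgS R (rg R V))).fromSpec :=
    HasRingHomProperty.of_isOpenImmersion (P := @Flat) RingHom.Flat.containsIdentities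
  exact @Flat.comp _ _ _ _ _ ho' hfl

theorem isPullback_iS : IsPullback (iS R) f (strS R) s₁ := by
  have hc : iS R ≫ strS R = f ≫ s₁ := i_str R
  refine Groth.Agent.CalgA.TwoGlue.isPullback_of_cover hc (thSys R).cov
    (fun V : JS R => V.1.toScheme) (fun V : JS R => V.1.ι) (fun V : JS R => (thSys R).inc V)
    (fun V => ((thSys R).isPullback_i V).flip) ?_
  intro V
  have h1 : (thSys R).ι V ≫ K679.str R = stS R V := ι_str R V
  change IsPullback ((thSys R).inc V) (V.1.ι ≫ f) ((thSys R).ι V ≫ K679.str R) s₁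
  rw [h1]
  have h2 := (isPullback_incS a.th (smS R V).1 (le_of_RgS R (rg R V))).paste_vert a.isPullback_th
  rw [← Category.assoc, Scheme.homOfLE_ι] at h2
  exact h2

/-- The lift glued from a rigidification. -/
noncomputable def tw : Lft f s₁ where
  Z := glS R
  h := strS R
  flat := flat_strS R
  j := iS R
  isPullback := isPullback_iS R

/-- The identity. -/
noncomputable def psi : glS R ⟶ ((tw R).pl hsq hD).T.X := 𝟙 (glS R)

theorem psi_j : (⊤ : Y.Opens).ι ≫ iS R ≫ psi R = ((tw R).pl hsq hD).T.j :=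
  congrArg (fun t => (⊤ : Y.Opens).ι ≫ t) (Category.comp_id (iS R))

theorem psi_s : psi R ≫ ((tw R).pl hsq hD).st = strS R := Category.id_comp _

theorem psi_κ (V : JS R) (m : Sec (pN i (On X n)) V.1) :
    muV R (psi R) (psi_j R) V (((tw R).pl hsq hD).κ V.2.1 le_top m) = (a.pl hsq hD).κ V.2.1 le_top m := by
  refine κ_of_comm hsq hD a.th a.isPullback_th (tw R).th (tw R).isPullback_th V.2.1 le_top le_top
    (muV R (psi R) (psi_j R) V) ?_ ?_ m
  · intro l
    exact muV_st R (psi R) (psi_j R) (psi_s R) V (Z := ⊤) (show V.1 ≤ (f ≫ s₁) ⁻¹ᵁ ⊤ from le_top) (tt l)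
  · intro s
    exact π_muV R (psi R) (psi_j R) V s

/-- Every class is the class of a lift. -/
theorem exists_lft_of_class (B₀ : Band (f ≫ s₁) (pN i (On X n)) e G) (a : Lft f s₁) (c : CohTop.H G 1) :
    ∃ b : Lft f s₁, PCls (pband0 B₀) (a.pl hsq hD) (b.pl hsq hD) c := by
  obtain ⟨T, D, hT, hc⟩ := exists_diff_of_class (X := (⊤ : Opens Z)) isTerminalTop c
  let R := torRig B₀ (pband0 B₀) (a.pl hsq hD) D hT
  exact ⟨tw R, (pcls_twist R rfl (psi R) (psi_j R) (psi_s R) (psi_κ R)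
    (fun V l => PEmpty.elim l) hc).2⟩

end K819.MultiOb
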