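import Groth.Agent.Deform.K679.SmallArr
import Groth.Agent.Sga67.LocBasis

/-!
# Flat lifts along an extension with kernel killed by the maximal ideal

Generalisation of `K679.SmallOb` to a kernel generated by a family `tt : Fin n → Γ(S, ⊤)`: a flat lift is a thickening by the
push-forward of `O ^ n` of the closed fibre.
-/

set_option autoImplicit false
universe u

open CategoryTheory CategoryTheory.Limits AlgebraicGeometry Opposite TopologicalSpace
open Groth.Agent.Sga67.Sec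
open K696.Base K696.Thk K679 K679.DerBand K679.SmallOb

attribute [local instance] Abelian.hasFiniteBiproducts

namespace K819.MultiOb

section bip

variable {X : Scheme.{u}} {n : ℕ}

/-- Copies of the structure sheaf. -/
noncomputable abbrev On (X : Scheme.{u}) (n : ℕ) : X.Modules := ⨁ fun _ : Fin n => Coh.structureModule X

/-- The components. -/
noncomputable def pr (V : X.Opens) (l : Fin n) : Sec (On X n) V →+ Γ(X, V) :=
  (toO V).comp (appS (biproduct.π (fun _ : Fin n => Coh.structureModule X) l) V).toAddMonoidHom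

theorem pr_apply (V : X.Opens) (l : Fin n) (m : Sec (On X n) V) :
    pr V l m = toO V (appS (biproduct.π (fun _ : Fin n => Coh.structureModule X) l) V m) := rfl

/-- The section with given components. -/
noncomputable def mk (V : X.Opens) (a : Fin n → Γ(X, V)) : Sec (On X n) V :=
  ∑ l, appS (biproduct.ι (fun _ : Fin n => Coh.structureModule X) l) V (ofO V (a l))

theorem pr_mk (V : X.Opens) (a : Fin n → Γ(X, V)) (l : Fin n) : pr V l (mk V a) = a l := by
  rw [pr_apply, mk, map_sum, Finset.sum_eq_single l]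
  · rw [← appS_comp, biproduct.ι_π_self, appS_id, toO_ofO]
  · intro j _ hj
    rw [← appS_comp, biproduct.ι_π_ne _ hj]
    exact appS_zero _ _
  · intro h
    exact absurd (Finset.mem_univ l) h

theorem ext_pr {V : X.Opens} {m m' : Sec (On X n) V} (h : ∀ l, pr V l m = pr V l m') : m = m' := by
  have h1 : ∀ m : Sec (On X n) V, m = mk V fun l => pr V l m := by
    intro m
    have h2 : m = appS (∑ l, biproduct.π (fun _ : Fin n => Coh.structureModule X) l ≫
        biproduct.ι (fun _ : Fin n => Coh.structureModule X) l) V m := by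
      rw [biproduct.total, appS_id]
    refine h2.trans ?_
    rw [Groth.Agent.Sga67.LocBasis.appS_sum]
    refine Finset.sum_congr rfl fun l _ => ?_
    rw [appS_comp]
    rfl
  rw [h1 m, h1 m']
  congr 1
  funext l
  exact h l

theorem pr_smul (V : X.Opens) (l : Fin n) (a : Γ(X, V)) (m : Sec (On X n) V) : pr V l (a • m) = a * pr V l m := by
  rw [pr_apply, map_smul, toO_smul, pr_apply]

theorem pr_res {V V' : X.Opens} (h : V' ≤ V) (l : Fin n) (m : Sec (On X n) V) :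
    pr V' l (res _ h m) = resO X h (pr V l m) := by
  rw [pr_apply, appS_res, toO_res, pr_apply]

end bip

section small

variable {X Y S₀ S₁ S : Scheme.{u}} {i : X ⟶ Y} {q : X ⟶ S₀} {f : Y ⟶ S₁} {s₁ : S₁ ⟶ S} {s₀ : S₀ ⟶ S}
  {n : ℕ} {tt : Fin n → Γ(S, ⊤)}

/-- The kernel of `s₁` is generated by the `tt l`, which are killed by the kernel of `s₀` and independent modulo it. -/
structure Dat (s₁ : S₁ ⟶ S) (s₀ : S₀ ⟶ S) (tt : Fin n → Γ(S, ⊤)) : Prop where
  h₁ : RingHom.ker (s₁.app ⊤).hom = Ideal.span (Set.range tt)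
  h₀ : ∀ (c : Γ(S, ⊤)), s₀.app ⊤ c = 0 → ∀ l, c * tt l = 0
  h₂ : ∀ c : Fin n → Γ(S, ⊤), ∑ l, tt l * c l = 0 → ∀ l, s₀.app ⊤ (c l) = 0
  h₃ : ∀ l, s₀.app ⊤ (tt l) = 0

variable (hsq : IsPullback i q (f ≫ s₁) s₀) [IsClosedImmersion s₀] [IsClosedImmersion s₁] [IsAffine S]
  (hD : Dat s₁ s₀ tt)
  {W : Y.Opens} (T : Th W) {st : T.X ⟶ S} (hpb : IsPullback T.j (W.ι ≫ f) st s₁)

include hD in
omit [IsClosedImmersion s₀] [IsClosedImmersion s₁] [IsAffine S] in
theorem tt_mul (l l' : Fin n) : tt l * tt l' = 0 := hD.h₀ _ (hD.h₃ l) l'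

/-- The element `tt l` over the thickening. -/
noncomputable abbrev tV {W : Y.Opens} (T : Th W) (st : T.X ⟶ S) (tt : Fin n → Γ(S, ⊤)) (V : Y.Opens) (l : Fin n) :
    Γ(T.X, T.im V) := tE T st (tt l) V

include hpb hD in
omit [IsClosedImmersion s₀] in
theorem exists_of_π_eq_zero {V : Y.Opens} (hV : IsAffineOpen V) (hVW : V ≤ W) (a : Γ(T.X, T.im V))
    (ha : T.π hVW a = 0) : ∃ b : Fin n → Γ(T.X, T.im V), a = ∑ l, tV T st tt V l * b l := by
  obtain ⟨-, hk⟩ := Groth.Agent.Flat2C.Thick.surjective_app_and_ker_app hpb (isAffineOpen_top S)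
    (isAffineOpen_im T hV hVW) (le_top : T.im V ≤ st ⁻¹ᵁ ⊤)
  have h2 : a ∈ RingHom.ker (T.j.app (T.im V)).hom := (π_eq_zero_iff T hVW a).1 ha
  rw [hk, hD.h₁, Ideal.map_span, ← Set.range_comp] at h2
  obtain ⟨b, hb⟩ := (Ideal.mem_span_range_iff_exists_fun).1 h2
  refine ⟨b, ?_⟩
  rw [← hb]
  exact Finset.sum_congr rfl fun l _ => mul_comm _ _

include hpb in
omit [IsClosedImmersion s₁] [IsAffine S] in
theorem π_evT {V : Y.Opens} (hVW : V ≤ W) (c : Γ(S, ⊤)) :
    T.π hVW (ev st (V := (⊤ : S.Opens)) (le_top : T.im V ≤ st ⁻¹ᵁ ⊤) c) =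
      ev (f ≫ s₁) (V := (⊤ : S.Opens)) (le_top : V ≤ (f ≫ s₁) ⁻¹ᵁ ⊤) c := by
  have hw : T.j ≫ st = W.ι ≫ (f ≫ s₁) := by rw [hpb.w, Category.assoc]
  exact T.π_ev (V := (⊤ : S.Opens)) st (f ≫ s₁) hw hVW le_top le_top c

include hpb hD in
theorem π_tV {V : Y.Opens} (hVW : V ≤ W) (l : Fin n) : T.π hVW (tV T st tt V l) = 0 := by
  refine (π_evT T hpb hVW (tt l)).trans ?_
  refine (ev_comp f s₁ (V := (⊤ : S.Opens)) (le_refl (s₁ ⁻¹ᵁ ⊤)) (le_top : V ≤ f ⁻¹ᵁ (s₁ ⁻¹ᵁ ⊤)) le_top (tt l)).symm.trans ?_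
  have h2 : tt l ∈ RingHom.ker (s₁.app ⊤).hom := by
    rw [hD.h₁]
    exact Ideal.subset_span ⟨l, rfl⟩
  have h3 : s₁.app ⊤ (tt l) = 0 := h2
  have h4 : ev s₁ (le_refl (s₁ ⁻¹ᵁ ⊤)) (tt l) = 0 := by
    rw [ev_eq_app]
    exact h3
  rw [h4, map_zero]

include hsq hpb hD in
theorem mul_eq_zero_of_rho {V : Y.Opens} (hV : IsAffineOpen V) (hVW : V ≤ W) (a : Γ(T.X, T.im V))
    (ha : rho i T hVW a = 0) (l : Fin n) : tV T st tt V l * a = 0 := by
  obtain ⟨-, hk⟩ := Groth.Agent.Flat2C.Thick.surjective_app_and_ker_app hsq (isAffineOpen_top S)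
    hV (le_top : V ≤ (f ≫ s₁) ⁻¹ᵁ ⊤)
  have h2 : T.π hVW a ∈ RingHom.ker (i.app V).hom := by
    rw [SmallOb.rho_apply, ev_eq_app] at ha
    exact ha
  rw [hk, Ideal.map] at h2
  have h3 : ∀ l', tV T st tt V l * tV T st tt V l' = 0 := by
    intro l'
    unfold tV tE
    rw [← map_mul, tt_mul hD, map_zero]
  have key : ∀ y ∈ Ideal.span ((((f ≫ s₁).appLE ⊤ V le_top).hom) '' (RingHom.ker (s₀.app ⊤).hom)),
      ∃ b : Γ(T.X, T.im V), T.π hVW b = y ∧ tV T st tt V l * b = 0 := by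
    intro y hy
    refine Submodule.span_induction (p := fun y _ => ∃ b : Γ(T.X, T.im V), T.π hVW b = y ∧
      tV T st tt V l * b = 0) ?_ ?_ ?_ ?_ hy
    · rintro _ ⟨c, hc, rfl⟩
      refine ⟨ev st (le_top : T.im V ≤ st ⁻¹ᵁ ⊤) c, ?_, ?_⟩
      · exact π_evT T hpb hVW c
      · unfold tV tE
        rw [← map_mul, mul_comm, hD.h₀ c hc l, map_zero]
    · exact ⟨0, map_zero _, mul_zero _⟩
    · rintro y y' _ _ ⟨b, hb, hb'⟩ ⟨c, hc, hc'⟩
      exact ⟨b + c, by rw [map_add, hb, hc], by rw [mul_add, hb', hc', add_zero]⟩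
    · rintro r y _ ⟨b, hb, hb'⟩
      obtain ⟨r', rfl⟩ := π_surjective T hV hVW r
      exact ⟨r' * b, by rw [map_mul, hb, smul_eq_mul], by rw [mul_left_comm, hb', mul_zero]⟩
  obtain ⟨b, hb, hb'⟩ := key _ h2
  obtain ⟨c, hc⟩ := exists_of_π_eq_zero hD T hpb hV hVW (a - b) (by rw [map_sub, hb, sub_self])
  rw [sub_eq_iff_eq_add] at hc
  rw [hc, mul_add, hb', add_zero, Finset.mul_sum]
  refine Finset.sum_eq_zero fun l' _ => ?_
  rw [← mul_assoc, h3, zero_mul]

include hsq hpb hD in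
theorem rho_eq_zero_of_sum [Flat st] {V : Y.Opens} (hV : IsAffineOpen V) (hVW : V ≤ W)
    (a : Fin n → Γ(T.X, T.im V)) (ha : ∑ l, tV T st tt V l * a l = 0) (l : Fin n) : rho i T hVW (a l) = 0 := by
  have hfl := st.flat_appLE (isAffineOpen_top S) (isAffineOpen_im T hV hVW)
    (le_top : T.im V ≤ st ⁻¹ᵁ ⊤)
  let φ : Γ(S, ⊤) →+* Γ(T.X, T.im V) := (st.appLE ⊤ (T.im V) le_top).hom
  let _ : Algebra Γ(S, ⊤) Γ(T.X, T.im V) := φ.toAlgebra
  have hfl' : Module.Flat Γ(S, ⊤) Γ(T.X, T.im V) := hfl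
  have hs : ∀ (c : Γ(S, ⊤)) (y : Γ(T.X, T.im V)), c • y = φ c * y := fun c y => Algebra.smul_def c y
  obtain ⟨m, c, y, h1, h2⟩ := Module.Flat.isTrivialRelation_of_sum_smul_eq_zero (R := Γ(S, ⊤))
    (M := Γ(T.X, T.im V)) (f := tt) (x := a) (by
      rw [← ha]
      refine Finset.sum_congr rfl fun l _ => ?_
      rw [hs]
      rfl)
  rw [h1 l, map_sum]
  refine Finset.sum_eq_zero fun j _ => ?_
  rw [hs, map_mul]
  have h3 : rho i T hVW (φ (c l j)) = 0 := rho_st hsq T hpb hVW _ (hD.h₂ (fun l => c l j) (h2 j) l)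
  rw [h3, zero_mul]

/-- The chosen lifts. -/
noncomputable def lft {V : Y.Opens} (hV : IsAffineOpen V) (hVW : V ≤ W)
    (m : Sec (pN i (On X n)) V) (l : Fin n) : Γ(T.X, T.im V) :=
  (rho_surjective hsq T hV hVW (pr _ l (ofP i _ V m))).choose

theorem rho_lft {V : Y.Opens} (hV : IsAffineOpen V) (hVW : V ≤ W)
    (m : Sec (pN i (On X n)) V) (l : Fin n) : rho i T hVW (lft hsq T hV hVW m l) = pr _ l (ofP i _ V m) :=
  (rho_surjective hsq T hV hVW (pr _ l (ofP i _ V m))).choose_spec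

include hsq hpb hD in
theorem sum_congr_rho {V : Y.Opens} (hV : IsAffineOpen V) (hVW : V ≤ W) (a b : Fin n → Γ(T.X, T.im V))
    (h : ∀ l, rho i T hVW (a l) = rho i T hVW (b l)) :
    ∑ l, tV T st tt V l * a l = ∑ l, tV T st tt V l * b l := by
  refine Finset.sum_congr rfl fun l _ => ?_
  rw [← sub_eq_zero, ← mul_sub]
  exact mul_eq_zero_of_rho hsq hD T hpb hV hVW _ (by rw [map_sub, h, sub_self]) l

/-- The identification of the kernel. -/
noncomputable def kap {V : Y.Opens} (hV : IsAffineOpen V) (hVW : V ≤ W) :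
    Sec (pN i (On X n)) V →+ Γ(T.X, T.im V) :=
  AddMonoidHom.mk' (fun m => ∑ l, tV T st tt V l * lft hsq T hV hVW m l) fun m m' => by
    rw [← Finset.sum_add_distrib]
    refine (sum_congr_rho hsq hD T hpb hV hVW _ (fun l => lft hsq T hV hVW m l + lft hsq T hV hVW m' l)
      fun l => ?_).trans ?_
    · rw [map_add, rho_lft, rho_lft, rho_lft, map_add, map_add]
    · exact Finset.sum_congr rfl fun l _ => mul_add _ _ _

theorem kap_eq {V : Y.Opens} (hV : IsAffineOpen V) (hVW : V ≤ W)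
    (m : Sec (pN i (On X n)) V) (a : Fin n → Γ(T.X, T.im V))
    (h : ∀ l, rho i T hVW (a l) = pr _ l (ofP i _ V m)) :
    kap hsq hD T hpb hV hVW m = ∑ l, tV T st tt V l * a l :=
  sum_congr_rho hsq hD T hpb hV hVW _ _ fun l => by rw [rho_lft, h]

/-- The section of the push-forward given by the restriction to the closed fibre. -/
noncomputable def sec (i : X ⟶ Y) {W : Y.Opens} (T : Th W) {V : Y.Opens} (hVW : V ≤ W)
    (a : Fin n → Γ(T.X, T.im V)) : Sec (pN i (On X n)) V := toP i _ V (mk _ fun l => rho i T hVW (a l))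

theorem pr_sec {V : Y.Opens} (hVW : V ≤ W) (a : Fin n → Γ(T.X, T.im V)) (l : Fin n) :
    pr _ l (ofP i _ V (sec i T hVW a)) = rho i T hVW (a l) := by
  unfold sec
  rw [ofP_toP, pr_mk]

theorem kap_sec {V : Y.Opens} (hV : IsAffineOpen V) (hVW : V ≤ W) (a : Fin n → Γ(T.X, T.im V)) :
    kap hsq hD T hpb hV hVW (sec i T hVW a) = ∑ l, tV T st tt V l * a l :=
  kap_eq hsq hD T hpb hV hVW _ a fun l => (pr_sec T hVW a l).symm

include hsq in
theorem exists_sec {V : Y.Opens} (hV : IsAffineOpen V) (hVW : V ≤ W)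
    (m : Sec (pN i (On X n)) V) : ∃ a, sec i T hVW a = m := by
  refine ⟨lft hsq T hV hVW m, ?_⟩
  apply ofP_injective
  refine ext_pr fun l => ?_
  rw [pr_sec, rho_lft]

/-- A flat lift is a thickening by the push-forward of `O ^ n` of the closed fibre. -/
noncomputable def ob [Flat st] : ThOb (f ≫ s₁) (pN i (On X n)) W where
  T := T
  st := st
  w := by rw [hpb.w, Category.assoc]
  κ hV hVW := kap hsq hD T hpb hV.1 hVW
  res_κ {V V'} hV hV' hVW h' m := by
    obtain ⟨a, rfl⟩ := exists_sec hsq T hV.1 hVW m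
    rw [kap_sec, map_sum]
    have h1 : ∀ l, resO T.X (T.im_mono h') (tV T st tt V l * a l) =
        tV T st tt V' l * resO T.X (T.im_mono h') (a l) := by
      intro l
      rw [map_mul]
      congr 1
      exact res_tE T h'
    rw [Finset.sum_congr rfl fun l _ => h1 l]
    refine (kap_eq hsq hD T hpb hV'.1 (h'.trans hVW) _ _ ?_).symm
    intro l
    rw [ofP_res, pr_res, pr_sec, SmallOb.rho_apply, SmallOb.rho_apply, ← T.resO_π hVW h', ev_res i (i.preimage_mono h') h' le_rfl,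
      ← res_ev i le_rfl (i.preimage_mono h')]
  inj {V} hV hVW m h := by
    obtain ⟨a, rfl⟩ := exists_sec hsq T hV.1 hVW m
    rw [kap_sec] at h
    apply ofP_injective
    refine ext_pr fun l => ?_
    rw [pr_sec, rho_eq_zero_of_sum hsq hD T hpb hV.1 hVW a h l, map_zero, map_zero]
  π_κ {V} hV hVW m := by
    obtain ⟨a, rfl⟩ := exists_sec hsq T hV.1 hVW m
    rw [kap_sec, map_sum]
    refine Finset.sum_eq_zero fun l _ => ?_
    rw [map_mul, π_tV hD T hpb, zero_mul]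
  ex {V} hV hVW a ha := by
    obtain ⟨b, rfl⟩ := exists_of_π_eq_zero hD T hpb hV.1 hVW a ha
    exact ⟨sec i T hVW b, by rw [kap_sec]⟩
  smul {V} hV hVW a m := by
    obtain ⟨b, rfl⟩ := exists_sec hsq T hV.1 hVW m
    rw [kap_sec, kap_eq hsq hD T hpb hV.1 hVW _ (fun l => a * b l), Finset.mul_sum]
    · exact Finset.sum_congr rfl fun l _ => mul_left_comm _ _ _
    · intro l
      rw [ofP_smul, pr_smul, pr_sec, map_mul]
      rfl

theorem ob_κ [Flat st] {V : Y.Opens} (hV : Sm (f ≫ s₁) V) (hVW : V ≤ W) (a : Fin n → Γ(T.X, T.im V)) :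
    (ob hsq hD T hpb).κ hV hVW (sec i T hVW a) = ∑ l, tV T st tt V l * a l := kap_sec hsq hD T hpb hV.1 hVW a

end small

end K819.MultiOb
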