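import Groth.Agent.DefT.K819.HomBand
import Groth.Agent.Deform.K679.ArtSmall
import Groth.Agent.SGA7.K565.ArtTools

/-!
# The kernel of a semismall extension
-/

set_option autoImplicit false
universe u

open CategoryTheory CategoryTheory.Limits AlgebraicGeometry Opposite TopologicalSpace
open ArtFun ArtFun.Art K679.ArtSmall

namespace K819.MultiOb

variable {k : Type u} [Field k] {C' C : Art k k} {p : C' ⟶ C} (hp : IsSemismallExt p)

include hp in
theorem mul_ker {c t : C'} (hc : C'.res c = 0) (ht : t ∈ RingHom.ker p.toAlgHom) : c * t = 0 := by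
  have h1 : c * t ∈ IsLocalRing.maximalIdeal C' * RingHom.ker p.toAlgHom :=
    Ideal.mul_mem_mul ((mem_maximalIdeal_iff C' c).2 hc) ht
  rw [hp.2] at h1
  exact h1

theorem res_ker {t : C'} (ht : t ∈ RingHom.ker p.toAlgHom) : C'.res t = 0 :=
  (mem_maximalIdeal_iff C' t).1 (K565.ArtTools.ker_le_maximalIdeal p ht)

theorem finite_ker (p : C' ⟶ C) : Module.Finite k ↥(RingHom.ker p.toAlgHom) := by
  have h1 : IsNoetherian k C' := (K565.ArtTools.isArtinian (Λ := k) (k := k) (fun a => ⟨a, rfl⟩) C').2
  have h2 : Module.Finite k ↥((RingHom.ker p.toAlgHom).restrictScalars k) := inferInstance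
  exact h2

include hp in
theorem ker_sq : (RingHom.ker p.toAlgHom.toRingHom) ^ 2 = ⊥ := by
  rw [pow_two, eq_bot_iff, Ideal.mul_le]
  intro a ha b hb
  have ha' : a ∈ RingHom.ker p.toAlgHom := ha
  have hb' : b ∈ RingHom.ker p.toAlgHom := hb
  exact (Ideal.mem_bot).2 (mul_ker hp (res_ker ha') hb')

variable {n : ℕ} (b : Module.Basis (Fin n) k ↥(RingHom.ker p.toAlgHom))

/-- The basis, as functions. -/
noncomputable def ttk (l : Fin n) : Γ(spec C', ⊤) := g C' (b l : C')

theorem smul_coe (c : k) (t : ↥(RingHom.ker p.toAlgHom)) : ((c • t : ↥(RingHom.ker p.toAlgHom)) : C') = algebraMap k C' c * (t : C') :=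
  Algebra.smul_def c (t : C')

include hp in
theorem mul_eq_res_smul (c : C') (t : ↥(RingHom.ker p.toAlgHom)) :
    c * (t : C') = ((C'.res c • t : ↥(RingHom.ker p.toAlgHom)) : C') := by
  rw [smul_coe, ← sub_eq_zero, ← sub_mul]
  refine mul_ker hp ?_ t.2
  rw [map_sub, AlgHom.commutes]
  exact sub_self _

include hp in
/-- The data of a semismall extension. -/
theorem dat : Dat (specMap p) (specRes C') (ttk b) where
  h₁ := by
    ext c
    obtain ⟨a, rfl⟩ := (g C').surjective c
    rw [RingHom.mem_ker]
    refine (app_g_eq_zero p.toAlgHom.toRingHom a).trans ?_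
    rw [Ideal.mem_span_range_iff_exists_fun]
    constructor
    · intro ha
      let t : ↥(RingHom.ker p.toAlgHom) := ⟨a, ha⟩
      refine ⟨fun l => g C' (algebraMap k C' (b.repr t l)), ?_⟩
      have h1 : a = ∑ l, algebraMap k C' (b.repr t l) * (b l : C') := by
        have h2 := congrArg (fun z : ↥(RingHom.ker p.toAlgHom) => (z : C')) (b.sum_repr t)
        refine h2.symm.trans ?_
        refine (map_sum (RingHom.ker p.toAlgHom).subtype _ _).trans ?_
        exact Finset.sum_congr rfl fun l _ => smul_coe _ _
      conv_rhs => rw [h1]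
      rw [map_sum]
      exact Finset.sum_congr rfl fun l _ => (map_mul (g C') _ _).symm
    · rintro ⟨c, hc⟩
      choose c' hc' using fun l => (g C').surjective (c l)
      have h1 : a = ∑ l, c' l * (b l : C') := by
        apply (g C').injective
        rw [map_sum, ← hc]
        exact Finset.sum_congr rfl fun l _ => by rw [map_mul, hc']; rfl
      have h2 : a ∈ RingHom.ker p.toAlgHom := by
        rw [h1]
        exact Ideal.sum_mem _ fun l _ => Ideal.mul_mem_left _ _ (b l).2
      exact h2
  h₀ c hc l := by
    obtain ⟨a, rfl⟩ := (g C').surjective c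
    have h1 : C'.res a = 0 := (app_g_eq_zero C'.res.toRingHom a).1 hc
    have h2 : a * (b l : C') = 0 := mul_ker hp h1 (b l).2
    have h3 : g C' a * ttk b l = g C' (a * (b l : C')) := (map_mul (g C') _ _).symm
    rw [h3, h2, map_zero]
  h₂ c hc l := by
    choose c' hc' using fun l => (g C').surjective (c l)
    have h1 : ∑ l, (b l : C') * c' l = 0 := by
      apply (g C').injective
      rw [map_sum, map_zero, ← hc]
      exact Finset.sum_congr rfl fun l _ => by rw [map_mul, hc']; rfl
    have h2 : ∑ l, C'.res (c' l) • b l = 0 := by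
      apply Subtype.ext
      refine (map_sum (RingHom.ker p.toAlgHom).subtype _ _).trans ?_
      refine Eq.trans ?_ h1
      refine Finset.sum_congr rfl fun l _ => ?_
      rw [mul_comm]
      exact (mul_eq_res_smul hp (c' l) (b l)).symm
    have h3 := Fintype.linearIndependent_iff.1 b.linearIndependent (fun l => C'.res (c' l)) h2 l
    rw [← hc']
    exact (app_g_eq_zero C'.res.toRingHom _).2 h3
  h₃ l := (app_g_eq_zero C'.res.toRingHom _).2 (res_ker (b l).2)

end K819.MultiOb
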